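import Cfsg.Agent.H399.Base
set_option linter.all false

/-!
# Primitive groups with a suborbit of length 5 (S3568): definitions for the residual configurations

`cj x X` is the conjugate `x X x⁻¹` and `Nm X` the normaliser (from `H399.Base`, with a small library about them).
-/

set_option autoImplicit false

open Pointwise

namespace Cfsg.Agent.H209.Five

open Cfsg.Agent.H399

variable {G : Type*} [Group G]

/-- `Q` is an elementary abelian 2-group of order `n`. -/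
structure EA (Q : Subgroup G) (n : ℕ) : Prop where
  card : Nat.card Q = n
  comm : ∀ x ∈ Q, ∀ y ∈ Q, x * y = y * x
  sq : ∀ x ∈ Q, x * x = 1

/-- Two elementary abelian 2-groups of order `n` normalising each other, with intersection of order `m`, such that
elements outside the intersection never commute. -/
structure QPair (Q₁ Q₂ : Subgroup G) (n m : ℕ) : Prop where
  ea₁ : EA Q₁ n
  ea₂ : EA Q₂ n
  inf : Nat.card ↥(Q₁ ⊓ Q₂) = m
  nm₁ : Q₂ ≤ Nm Q₁
  nm₂ : Q₁ ≤ Nm Q₂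
  nondeg : ∀ x ∈ Q₁, ∀ y ∈ Q₂, x * y = y * x → x ∈ Q₂ ∨ y ∈ Q₁

/-- A `QPair` of orders 16, 4 (a Sylow 2-subgroup `Q₁Q₂` of order 64 of type `L₃(4)`) with an element `τ` of order 3 acting
without fixed points. -/
structure Six (Q₁ Q₂ : Subgroup G) (τ : G) : Prop where
  pair : QPair Q₁ Q₂ 16 4
  three : τ ^ 3 = 1
  n₁ : τ ∈ Nm Q₁
  n₂ : τ ∈ Nm Q₂
  fpf : ∀ t ∈ Q₁ ⊔ Q₂, τ * t = t * τ → t = 1

/-- type (i): an involution `u` interchanging `Q₁`, `Q₂` and commuting with `τ`. -/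
structure TypeOne (Q₁ Q₂ : Subgroup G) (τ u : G) : Prop where
  six : Six Q₁ Q₂ τ
  u2 : u * u = 1
  swap : cj u Q₁ = Q₂
  comm : u * τ = τ * u

/-- type (ii): an involution `v` interchanging `Q₁`, `Q₂` and inverting `τ`; `z` is an involution of `Q₁ ∩ Q₂` commuting
with `v`. -/
structure TypeTwo (Q₁ Q₂ : Subgroup G) (τ v z : G) : Prop where
  six : Six Q₁ Q₂ τ
  v2 : v * v = 1
  swap : cj v Q₁ = Q₂
  inv : v * τ * v = τ⁻¹
  z₁ : z ∈ Q₁
  z₂ : z ∈ Q₂
  zne : z ≠ 1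
  vz : v * z = z * v

/-- type (iii): an involution `s` normalising `Q₁`, `Q₂` and inverting `τ`; `z` is an involution of `Q₁ ∩ Q₂` commuting
with `s`. -/
structure TypeThree (Q₁ Q₂ : Subgroup G) (τ s z : G) : Prop where
  six : Six Q₁ Q₂ τ
  s2 : s * s = 1
  n₁ : s ∈ Nm Q₁
  n₂ : s ∈ Nm Q₂
  inv : s * τ * s = τ⁻¹
  z₁ : z ∈ Q₁
  z₂ : z ∈ Q₂
  zne : z ≠ 1
  sz : s * z = z * s

end Cfsg.Agent.H209.Five
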