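import Cfsg.Agent.H209.Five.Defs
set_option linter.all false

/-!
# General facts on a `QPair` (S3568, BASICS 1)

`T = Q₁Q₂`, `X = Q₁ ∩ Q₂ = Z(T)`: commutators and squares of `T` lie in `X`, and the involutions and the elementary
abelian subgroups of `T` lie in `Q₁` or in `Q₂`.
-/

set_option autoImplicit false

open Pointwise

namespace Cfsg.Agent.H209.Five

open Cfsg.Agent.H399

variable {G : Type*} [Group G]

theorem QPair.symm {Q₁ Q₂ : Subgroup G} {n m : ℕ} (h : QPair Q₁ Q₂ n m) : QPair Q₂ Q₁ n m where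
  ea₁ := h.ea₂
  ea₂ := h.ea₁
  inf := by rw [inf_comm]; exact h.inf
  nm₁ := h.nm₂
  nm₂ := h.nm₁
  nondeg := fun x hx y hy hxy => (h.nondeg y hy x hx hxy.symm).symm

theorem QPair.decomp {Q₁ Q₂ : Subgroup G} {n m : ℕ} (h : QPair Q₁ Q₂ n m) {t : G} (ht : t ∈ Q₁ ⊔ Q₂) :
    ∃ a ∈ Q₁, ∃ b ∈ Q₂, a * b = t := (mul_mem_sup_iff h.nm₂).1 ht

theorem QPair.comm_inf {Q₁ Q₂ : Subgroup G} {n m : ℕ} (h : QPair Q₁ Q₂ n m) {x t : G} (hx : x ∈ Q₁ ⊓ Q₂)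
    (ht : t ∈ Q₁ ⊔ Q₂) : x * t = t * x := by
  obtain ⟨a, ha, b, hb, rfl⟩ := h.decomp ht
  obtain ⟨hx1, hx2⟩ := Subgroup.mem_inf.1 hx
  rw [← mul_assoc, h.ea₁.comm x hx1 a ha, mul_assoc, h.ea₂.comm x hx2 b hb, mul_assoc]

/-- `[b, a] ∈ Q₁ ∩ Q₂` for `b ∈ Q₂`, `a ∈ Q₁`. -/
theorem QPair.comm_basic {Q₁ Q₂ : Subgroup G} {n m : ℕ} (h : QPair Q₁ Q₂ n m) {a b : G} (ha : a ∈ Q₁) (hb : b ∈ Q₂) :
    ∃ k ∈ Q₁ ⊓ Q₂, b * a = k * (a * b) := by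
  refine ⟨b * a * b⁻¹ * a⁻¹, ⟨?_, ?_⟩, by group⟩
  · exact Q₁.mul_mem (le_Nm.1 h.nm₁ b hb a ha) (Q₁.inv_mem ha)
  · have := le_Nm.1 h.nm₂ a ha b⁻¹ (Q₂.inv_mem hb)
    have h2 := Q₂.mul_mem hb this
    have e : b * a * b⁻¹ * a⁻¹ = b * (a * b⁻¹ * a⁻¹) := by group
    rw [e]
    exact h2

theorem QPair.comm_eq {Q₁ Q₂ : Subgroup G} {n m : ℕ} (h : QPair Q₁ Q₂ n m) {x y : G} (hx : x ∈ Q₁ ⊔ Q₂)
    (hy : y ∈ Q₁ ⊔ Q₂) : ∃ k ∈ Q₁ ⊓ Q₂, x * y = k * (y * x) := by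
  obtain ⟨a, ha, b, hb, rfl⟩ := h.decomp hx
  obtain ⟨c, hc, d, hd, rfl⟩ := h.decomp hy
  obtain ⟨k, hk, ek⟩ := h.comm_basic hc hb
  obtain ⟨l, hl, el⟩ := h.comm_basic ha hd
  have hk' := (Q₁ ⊓ Q₂).inv_mem hl
  refine ⟨k * l⁻¹, (Q₁ ⊓ Q₂).mul_mem hk hk', ?_⟩
  have sa : a ∈ Q₁ ⊔ Q₂ := Subgroup.mem_sup_left ha
  have sc : c ∈ Q₁ ⊔ Q₂ := Subgroup.mem_sup_left hc
  -- `a d = l⁻¹ d a`
  have el' : a * d = l⁻¹ * (d * a) := by rw [el]; group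
  calc a * b * (c * d) = a * (b * c) * d := by group
    _ = a * (k * (c * b)) * d := by rw [ek]
    _ = (a * k) * c * (b * d) := by group
    _ = (k * a) * c * (d * b) := by rw [← h.comm_inf hk sa, h.ea₂.comm b hb d hd]
    _ = k * (a * c) * (d * b) := by group
    _ = k * (c * a) * (d * b) := by rw [h.ea₁.comm a ha c hc]
    _ = k * c * (a * d) * b := by group
    _ = k * c * (l⁻¹ * (d * a)) * b := by rw [el']
    _ = k * (c * l⁻¹) * (d * a * b) := by group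
    _ = k * (l⁻¹ * c) * (d * a * b) := by rw [← h.comm_inf hk' sc]
    _ = k * l⁻¹ * (c * d * (a * b)) := by group

theorem QPair.comm_mem {Q₁ Q₂ : Subgroup G} {n m : ℕ} (h : QPair Q₁ Q₂ n m) {x y : G} (hx : x ∈ Q₁ ⊔ Q₂)
    (hy : y ∈ Q₁ ⊔ Q₂) : x * y * x⁻¹ * y⁻¹ ∈ Q₁ ⊓ Q₂ := by
  obtain ⟨k, hk, ek⟩ := h.comm_eq hx hy
  have e : x * y * x⁻¹ * y⁻¹ = k := by rw [ek]; group
  rw [e]
  exact hk

theorem QPair.sq_mem {Q₁ Q₂ : Subgroup G} {n m : ℕ} (h : QPair Q₁ Q₂ n m) {x : G} (hx : x ∈ Q₁ ⊔ Q₂) :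
    x * x ∈ Q₁ ⊓ Q₂ := by
  obtain ⟨a, ha, b, hb, rfl⟩ := h.decomp hx
  obtain ⟨k, hk, ek⟩ := h.comm_basic ha hb
  have e : a * b * (a * b) = k := by
    calc a * b * (a * b) = a * (b * a) * b := by group
      _ = a * (k * (a * b)) * b := by rw [ek]
      _ = (a * k) * a * (b * b) := by group
      _ = (k * a) * a * (b * b) := by rw [← h.comm_inf hk (Subgroup.mem_sup_left ha)]
      _ = k * (a * a) * (b * b) := by group
      _ = k := by rw [h.ea₁.sq a ha, h.ea₂.sq b hb, mul_one, mul_one]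
  rw [e]
  exact hk

theorem QPair.pow_four {Q₁ Q₂ : Subgroup G} {n m : ℕ} (h : QPair Q₁ Q₂ n m) {x : G} (hx : x ∈ Q₁ ⊔ Q₂) :
    x ^ 4 = 1 := by
  have h1 := h.ea₁.sq (x * x) (Subgroup.mem_inf.1 (h.sq_mem hx)).1
  have e : x ^ 4 = x * x * (x * x) := by
    rw [pow_succ, pow_succ, pow_two]
    group
  rw [e, h1]

theorem QPair.inv {Q₁ Q₂ : Subgroup G} {n m : ℕ} (h : QPair Q₁ Q₂ n m) {t : G} (ht : t ∈ Q₁ ⊔ Q₂) (h1 : t * t = 1) :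
    t ∈ Q₁ ∨ t ∈ Q₂ := by
  obtain ⟨a, ha, b, hb, rfl⟩ := h.decomp ht
  have h2 := h.ea₁.sq a ha
  have h3 := h.ea₂.sq b hb
  have e : a * b = b * a := by
    calc a * b = a⁻¹ * b⁻¹ := by rw [inv_eq_of_mul_eq_one_left h2, inv_eq_of_mul_eq_one_left h3]
      _ = a⁻¹ * (a * b * (a * b)) * b⁻¹ := by rw [h1, mul_one]
      _ = b * a := by group
  rcases h.nondeg a ha b hb e with h4 | h4
  · exact Or.inr (Q₂.mul_mem h4 hb)
  · exact Or.inl (Q₁.mul_mem ha h4)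

theorem QPair.elab {Q₁ Q₂ : Subgroup G} {n m : ℕ} (h : QPair Q₁ Q₂ n m) {V : Subgroup G} (hV : V ≤ Q₁ ⊔ Q₂)
    (h1 : ∀ x ∈ V, x * x = 1) : V ≤ Q₁ ∨ V ≤ Q₂ := by
  by_contra hcon
  rw [not_or] at hcon
  obtain ⟨hn1, hn2⟩ := hcon
  obtain ⟨x, hx, hx1⟩ := SetLike.not_le_iff_exists.1 hn1
  obtain ⟨y, hy, hy2⟩ := SetLike.not_le_iff_exists.1 hn2
  have hx2 : x ∈ Q₂ := (h.inv (hV hx) (h1 x hx)).resolve_left hx1
  have hy1 : y ∈ Q₁ := (h.inv (hV hy) (h1 y hy)).resolve_right hy2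
  have hxy := V.mul_mem hx hy
  rcases h.inv (hV hxy) (h1 _ hxy) with h3 | h3
  · exact hx1 ((Q₁.mul_mem_cancel_right hy1).1 h3)
  · exact hy2 ((Q₂.mul_mem_cancel_left hx2).1 h3)

theorem QPair.card_sup [Finite G] {Q₁ Q₂ : Subgroup G} {n m : ℕ} (h : QPair Q₁ Q₂ n m) :
    Nat.card ↥(Q₁ ⊔ Q₂) * m = n * n := by
  have h1 := Cfsg.Agent.H399.card_sup h.nm₂
  rw [h.inf, h.ea₁.card, h.ea₂.card] at h1
  exact h1

theorem QPair.not_le [Finite G] {Q₁ Q₂ : Subgroup G} {n m : ℕ} (h : QPair Q₁ Q₂ n m) (hnm : m < n) : ¬ Q₁ ≤ Q₂ := by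
  intro hle
  have h1 := h.inf
  rw [inf_eq_left.2 hle, h.ea₁.card] at h1
  omega

theorem QPair.center [Finite G] {Q₁ Q₂ : Subgroup G} {n m : ℕ} (h : QPair Q₁ Q₂ n m) (hnm : m < n) {t : G}
    (ht : t ∈ Q₁ ⊔ Q₂) (hc : ∀ x ∈ Q₁ ⊔ Q₂, x * t = t * x) : t ∈ Q₁ ⊓ Q₂ := by
  obtain ⟨a, ha, b, hb, rfl⟩ := h.decomp ht
  have hb1 : b ∈ Q₁ := by
    obtain ⟨x, hx, hx2⟩ := SetLike.not_le_iff_exists.1 (h.not_le hnm)
    have h1 := hc x (Subgroup.mem_sup_left hx)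
    have h2 : x * b = b * x := by
      apply mul_left_cancel (a := a)
      calc a * (x * b) = (a * x) * b := by group
        _ = (x * a) * b := by rw [h.ea₁.comm a ha x hx]
        _ = x * (a * b) := by group
        _ = a * b * x := h1
        _ = a * (b * x) := by group
    exact (h.nondeg x hx b hb h2).resolve_left hx2
  have ha2 : a ∈ Q₂ := by
    obtain ⟨y, hy, hy1⟩ := SetLike.not_le_iff_exists.1 (h.symm.not_le hnm)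
    have h1 := hc y (Subgroup.mem_sup_right hy)
    have h2 : a * y = y * a := by
      apply mul_right_cancel (b := b)
      calc a * y * b = a * (y * b) := by group
        _ = a * (b * y) := by rw [h.ea₂.comm y hy b hb]
        _ = a * b * y := by group
        _ = y * (a * b) := h1.symm
        _ = y * a * b := by group
    exact (h.nondeg a ha y hy h2).resolve_right hy1
  exact ⟨Q₁.mul_mem ha hb1, Q₂.mul_mem ha2 hb⟩

theorem QPair.cent_left [Finite G] {Q₁ Q₂ : Subgroup G} {n m : ℕ} (h : QPair Q₁ Q₂ n m) {t q : G}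
    (ht : t ∈ Q₁ ⊔ Q₂) (hq : q ∈ Q₁) (hq2 : q ∉ Q₂) (hc : q * t = t * q) : t ∈ Q₁ := by
  obtain ⟨a, ha, b, hb, rfl⟩ := h.decomp ht
  have h2 : q * b = b * q := by
    apply mul_left_cancel (a := a)
    calc a * (q * b) = (a * q) * b := by group
      _ = (q * a) * b := by rw [h.ea₁.comm a ha q hq]
      _ = q * (a * b) := by group
      _ = a * b * q := hc
      _ = a * (b * q) := by group
  exact Q₁.mul_mem ha ((h.nondeg q hq b hb h2).resolve_left hq2)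

/-- A conjugate of `Q₁` contained in `T` is `Q₁` or `Q₂`. -/
theorem QPair.cj_left [Finite G] {Q₁ Q₂ : Subgroup G} {n m : ℕ} (h : QPair Q₁ Q₂ n m) {x : G}
    (hx : x ∈ Nm (Q₁ ⊔ Q₂)) : cj x Q₁ = Q₁ ∨ cj x Q₁ = Q₂ := by
  have hle : cj x Q₁ ≤ Q₁ ⊔ Q₂ := by
    have h1 : cj x Q₁ ≤ cj x (Q₁ ⊔ Q₂) := cj_le_cj.2 le_sup_left
    rwa [cj_of_mem_Nm hx] at h1
  have hsq : ∀ y ∈ cj x Q₁, y * y = 1 := by
    intro y hy
    have h1 := h.ea₁.sq _ (mem_cj.1 hy)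
    have e : x⁻¹ * y * x * (x⁻¹ * y * x) = x⁻¹ * (y * y) * x := by group
    rw [e] at h1
    have h2 : y * y = x * (x⁻¹ * (y * y) * x) * x⁻¹ := by group
    rw [h2, h1, mul_one, mul_inv_cancel]
  have hcard : Nat.card ↥(cj x Q₁) = n := by rw [card_cj, h.ea₁.card]
  rcases h.elab hle hsq with h1 | h1
  · exact Or.inl (Subgroup.eq_of_le_of_card_ge h1 (by rw [hcard, h.ea₁.card]))
  · exact Or.inr (Subgroup.eq_of_le_of_card_ge h1 (by rw [hcard, h.ea₂.card]))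

theorem QPair.perm [Finite G] {Q₁ Q₂ : Subgroup G} {n m : ℕ} (h : QPair Q₁ Q₂ n m) (hnm : m < n) {x : G}
    (hx : x ∈ Nm (Q₁ ⊔ Q₂)) : (cj x Q₁ = Q₁ ∧ cj x Q₂ = Q₂) ∨ (cj x Q₁ = Q₂ ∧ cj x Q₂ = Q₁) := by
  have hx' : x ∈ Nm (Q₂ ⊔ Q₁) := by rwa [sup_comm]
  have hne : Q₁ ≠ Q₂ := fun h1 => h.not_le hnm (le_of_eq h1)
  rcases h.cj_left hx with h1 | h1
  · rcases h.symm.cj_left hx' with h2 | h2
    · exact Or.inl ⟨h1, h2⟩
    · exact absurd (cj_inj.1 (h1.trans h2.symm)) hne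
  · rcases h.symm.cj_left hx' with h2 | h2
    · exact absurd (cj_inj.1 (h1.trans h2.symm)) hne
    · exact Or.inr ⟨h1, h2⟩

end Cfsg.Agent.H209.Five
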