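import Cfsg.Agent.H209.Five.BasicsOne
import Cfsg.Agent.H209.Five.Hom
import Cfsg.Agent.H251.JSylow
set_option linter.all false

-- part: H209/Five/Nat5
section
/-!
# The configuration reached by pushing up: `O₂(A)/C(L)` is a natural `SL₂(4)`-module
-/

set_option autoImplicit false
set_option linter.unusedSectionVars false

open Pointwise

namespace Cfsg.Agent.H209.Five

open Cfsg.Agent.H399

variable {G : Type*} [Group G]

/-- the field with four elements -/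
abbrev F4 : Type := GaloisField 2 2

/-- `SL₂(4)` -/
abbrev SL24 : Type := Matrix.SpecialLinearGroup (Fin 2) F4

/-- `L₁`: the normal closure in `A` of `O₂(A ∩ B)` -/
def LL (A B : Subgroup G) : Subgroup G := ncl A (Op 2 (A ⊓ B))

/-- `L` acts on the abelian group `Q / C_Q(L)` by conjugation as `SL₂(4)` on its natural module; the kernel of the action
of `L` is `Q`. -/
structure NatMod (Q L : Subgroup G) (ρ : ↥L →* SL24) (ψ : ↥Q → (Fin 2 → F4)) : Prop where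
  surjL : Function.Surjective ρ
  surjQ : Function.Surjective ψ
  mul : ∀ x y : Q, ψ (x * y) = ψ x + ψ y
  kerL : ∀ l : L, ρ l = 1 ↔ (l : G) ∈ Q
  kerQ : ∀ q : Q, ψ q = 0 ↔ (q : G) ∈ Subgroup.centralizer (L : Set G)
  act : ∀ (l : L) (q q' : Q), (q' : G) = l * q * (l : G)⁻¹ → ψ q' = (ρ l).1.mulVec (ψ q)

/-- The configuration reached in the nonsolvable case by pushing up. `Q₁ = Op 2 A`, `Q₂ = Op 2 B`, `T = Op 2 (A ⊓ B)`,
`L₁ = LL A B`, `K₁ = core A (A ⊓ B)`. -/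
structure Nat5 (A B : Subgroup G) (g : G) (m : ℕ) : Prop extends NS A B g where
  hm : m = 4 ∨ m = 16
  gB : cj g B = A
  gQ : cj g (Op 2 A) = Op 2 B
  gQ' : cj g (Op 2 B) = Op 2 A
  pair : QPair (Op 2 A) (Op 2 B) (4 * m) m
  sup : Op 2 A ⊔ Op 2 B = Op 2 (A ⊓ B)
  cores : core A (A ⊓ B) ⊓ core B (B ⊓ A) = Op 2 A ⊓ Op 2 B
  /-- `C_A(Q₁) ≤ Q₁` -/
  cent : ∀ x ∈ A, (∀ y ∈ Op 2 A, y * x = x * y) → x ∈ Op 2 A
  Lle : LL A B ≤ A
  /-- `A = L₁ D` -/
  LD : A ≤ LL A B ⊔ A ⊓ B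
  QL : Op 2 A ≤ LL A B
  QK : Op 2 A ≤ core A (A ⊓ B)
  LK : LL A B ⊓ core A (A ⊓ B) = Op 2 A
  Lcard : (Op 2 A).relIndex (LL A B) = 60
  /-- `[K₁, L₁] ≤ Q₁` -/
  comm : ∀ k ∈ core A (A ⊓ B), ∀ l ∈ LL A B, k * l * k⁻¹ * l⁻¹ ∈ Op 2 A
  nat : ∃ ρ ψ, NatMod (Op 2 A) (LL A B) ρ ψ
  /-- `[Q₁, L₁] = Q₁` -/
  perf : Op 2 A ≤ ⁅Op 2 A, LL A B⁆

end Cfsg.Agent.H209.Five
end

-- part: H209/Five/Syl
section
/-!
# Sylow 2-subgroups of subgroups, in the notation of `H399.Base`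
-/

set_option autoImplicit false
set_option linter.unusedSectionVars false

open Pointwise

namespace Cfsg.Agent.H209.Five

open Cfsg.Agent.H399
open Cfsg (IsSylowTwoIn)

variable {G : Type*} [Group G]

theorem cj_eq_cj (x : G) (X : Subgroup G) : H251.cj x X = cj x X := rfl

section

variable [Finite G] {T T' U L N : Subgroup G}

theorem syl_conj (h : IsSylowTwoIn T L) (h' : IsSylowTwoIn T' L) : ∃ l ∈ L, cj l T = T' :=
  H251.syl_exists_cj h h'

theorem syl_le_conj (h : IsSylowTwoIn T L) (hU : IsPGroup 2 U) (hUL : U ≤ L) : ∃ l ∈ L, U ≤ cj l T :=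
  H251.syl_exists_le_cj h hU hUL

theorem syl_cj (h : IsSylowTwoIn T L) (g : G) : IsSylowTwoIn (cj g T) (cj g L) := H251.syl_cj h g

theorem syl_cj_mem (h : IsSylowTwoIn T L) {l : G} (hl : l ∈ L) : IsSylowTwoIn (cj l T) L := H251.syl_cj_mem h hl

theorem syl_frattini (hT : IsSylowTwoIn T N) (hNL : N ≤ L) (hn : L ≤ Nm N) :
    ∀ l ∈ L, ∃ n ∈ N, ∃ m ∈ L ⊓ Nm T, l = n * m := H251.frattini hT hNL hn

theorem syl_inf (h : IsSylowTwoIn T L) (hNL : N ≤ L) (hn : L ≤ Nm N) : IsSylowTwoIn (T ⊓ N) N :=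
  H251.syl_inf_of_le_normalizer h hNL hn

/-- a Sylow 2-subgroup of a subgroup of odd index is a Sylow 2-subgroup -/
theorem syl_trans {H : Subgroup G} (h : IsSylowTwoIn T H) (hHL : H ≤ L) (ho : Odd (H.relIndex L)) : IsSylowTwoIn T L := by
  refine ⟨h.1.trans hHL, h.2.1, ?_⟩
  rw [← Subgroup.relIndex_mul_relIndex T H L h.1 hHL]
  exact h.2.2.mul ho

/-- every normal 2-subgroup is in a Sylow 2-subgroup -/
theorem le_syl_of_normal (h : IsSylowTwoIn T L) (hU : IsPGroup 2 U) (hUL : U ≤ L) (hn : L ≤ Nm U) : U ≤ T := by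
  obtain ⟨l, hl, h1⟩ := syl_le_conj h hU hUL
  have h2 := (cj_le_cj (x := l⁻¹)).2 h1
  rw [cj_inv_cj, le_Nm'.1 hn _ (L.inv_mem hl)] at h2
  exact h2

/-- the order of a 2-subgroup divides the order of a Sylow 2-subgroup -/
theorem two_dvd_of_card {n : ℕ} (h : IsSylowTwoIn T L) (hn : 2 ^ n ∣ Nat.card L) : 2 ^ n ∣ Nat.card T := by
  have h1 := card_mul_relIndex h.1
  rw [← h1] at hn
  exact (Nat.Coprime.pow_left n (Nat.coprime_two_left.2 h.2.2)).dvd_of_dvd_mul_right hn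

end

end Cfsg.Agent.H209.Five
end

-- part: H209/Five/NonSolv
section
/-!
# The nonsolvable case: both actions contain `A₅`
-/

set_option autoImplicit false
set_option linter.unusedSectionVars false

open Pointwise

namespace Cfsg.Agent.H209.Five

open Cfsg.Agent.H399
open Cfsg (IsSylowTwoIn)

variable {G : Type*} [Group G]

/-- Elements of `A ∩ B` with a conjugation invariant property that lie in both cores are trivial. -/
theorem pred_bot [Finite G] {A B : Subgroup G} (U : ∀ X ≤ A ⊓ B, A ≤ Nm X → B ≤ Nm X → X = ⊥) {P : G → Prop}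
    (hP : ∀ g x, P x → P (g * x * g⁻¹)) (h1 : ∀ x ∈ A ⊓ B, P x → x ∈ core A (A ⊓ B))
    (h2 : ∀ x ∈ A ⊓ B, P x → x ∈ core B (B ⊓ A)) : ∀ x ∈ A ⊓ B, P x → x = 1 := by
  have key : Subgroup.closure {x | x ∈ A ⊓ B ∧ P x} = ⊥ := by
    apply U
    · rw [Subgroup.closure_le]
      exact fun x hx => hx.1
    · intro a ha
      refine mem_Nm.2 ?_
      rw [cj_eq_map, MonoidHom.map_closure]
      congr 1
      ext y
      constructor
      · rintro ⟨x, ⟨hx, hPx⟩, rfl⟩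
        refine ⟨?_, hP a x hPx⟩
        have h3 := h1 x hx hPx
        exact core_le A (A ⊓ B) (le_Nm.1 (le_Nm_core A (A ⊓ B)) a ha x h3)
      · rintro ⟨hy, hPy⟩
        refine ⟨a⁻¹ * y * a, ⟨?_, ?_⟩, ?_⟩
        · have h3 := h1 y hy hPy
          have h4 := core_le A (A ⊓ B) (le_Nm.1 (le_Nm_core A (A ⊓ B)) a⁻¹ (A.inv_mem ha) y h3)
          rwa [inv_inv] at h4
        · have := hP a⁻¹ y hPy
          rwa [inv_inv] at this
        · simp [mul_assoc]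
    · intro a ha
      refine mem_Nm.2 ?_
      rw [cj_eq_map, MonoidHom.map_closure]
      congr 1
      ext y
      constructor
      · rintro ⟨x, ⟨hx, hPx⟩, rfl⟩
        refine ⟨?_, hP a x hPx⟩
        have h3 := h2 x hx hPx
        have h4 := core_le B (B ⊓ A) (le_Nm.1 (le_Nm_core B (B ⊓ A)) a ha x h3)
        rwa [inf_comm] at h4
      · rintro ⟨hy, hPy⟩
        refine ⟨a⁻¹ * y * a, ⟨?_, ?_⟩, ?_⟩
        · have h3 := h2 y hy hPy
          have h4 := core_le B (B ⊓ A) (le_Nm.1 (le_Nm_core B (B ⊓ A)) a⁻¹ (B.inv_mem ha) y h3)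
          rw [inv_inv, inf_comm] at h4
          exact h4
        · have := hP a⁻¹ y hPy
          rwa [inv_inv] at this
        · simp [mul_assoc]
  intro x hx hPx
  have h3 : x ∈ Subgroup.closure {x | x ∈ A ⊓ B ∧ P x} := Subgroup.subset_closure ⟨hx, hPx⟩
  rw [key, Subgroup.mem_bot] at h3
  exact h3

section

variable [Finite G] {A B : Subgroup G}

theorem relIndex_coreD (h : Pr5 A B) : (core A (A ⊓ B)).relIndex (A ⊓ B) ∣ 24 := by
  obtain ⟨φ, hφ⟩ := exists_hom5 (C := A ⊓ B) h.idx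
  have h1 := Subgroup.relIndex_mul_relIndex _ _ _ (core_le A (A ⊓ B)) (inf_le_left : A ⊓ B ≤ A)
  rw [h.idx] at h1
  have h2 := hφ.relIndex_dvd
  rw [← h1] at h2
  exact Nat.dvd_of_mul_dvd_mul_right (k := 5) (by norm_num) h2

theorem coprime_six_conj (g x : G) (h : (orderOf x).Coprime 6) : (orderOf (g * x * g⁻¹)).Coprime 6 := by
  have : orderOf (g * x * g⁻¹) = orderOf x := by
    rw [← MulAut.conj_apply]
    exact orderOf_injective (MulAut.conj g).toMonoidHom (MulAut.conj g).injective x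
  rwa [this]

theorem mem_core_of_coprime (h : Pr5 A B) {x : G} (hx : x ∈ A ⊓ B) (ho : (orderOf x).Coprime 6) :
    x ∈ core A (A ⊓ B) := by
  refine mem_of_pow_mem (m := orderOf x) (n := (core A (A ⊓ B)).relIndex (A ⊓ B)) ?_ (pow_orderOf_eq_one x)
    (pow_relIndex_mem (inf_le_left.trans (le_Nm_core A (A ⊓ B))) hx)
  have h1 : (orderOf x).Coprime 24 := by
    have h2 : (orderOf x).Coprime (6 ^ 3) := Nat.Coprime.pow_right 3 ho
    exact Nat.Coprime.coprime_dvd_right (by norm_num) h2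
  exact Nat.Coprime.coprime_dvd_right (relIndex_coreD h) h1

theorem Pr5.no_coprime (h : Pr5 A B) {x : G} (hx : x ∈ A ⊓ B) (ho : (orderOf x).Coprime 6) : x = 1 := by
  refine pred_bot h.U (P := fun x => (orderOf x).Coprime 6) coprime_six_conj
    (fun x hx hP => mem_core_of_coprime h hx hP) (fun x hx hP => ?_) x hx ho
  exact mem_core_of_coprime h.symm (by rwa [inf_comm]) hP

/-- `A ∩ B` is a {2,3}-group -/
theorem Pr5.prime_dvd (h : Pr5 A B) {p : ℕ} (hp : p.Prime) (hd : p ∣ Nat.card ↥(A ⊓ B)) : p = 2 ∨ p = 3 := by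
  by_contra hcon
  push Not at hcon
  have : Fact p.Prime := ⟨hp⟩
  obtain ⟨x, hx⟩ := exists_prime_orderOf_dvd_card' p hd
  have h1 : orderOf (x : G) = p := by rw [Subgroup.orderOf_coe, hx]
  have h2 : (x : G) = 1 := by
    apply h.no_coprime x.2
    rw [h1]
    have h3 : Nat.Coprime p 2 := (Nat.coprime_primes hp Nat.prime_two).2 hcon.1
    have h4 : Nat.Coprime p 3 := (Nat.coprime_primes hp Nat.prime_three).2 hcon.2
    exact Nat.Coprime.mul_right h3 h4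
  rw [h2, orderOf_one] at h1
  exact hp.one_lt.ne h1

theorem Pr5.not_five_dvd (h : Pr5 A B) : ¬ 5 ∣ Nat.card ↥(A ⊓ B) := by
  intro h1
  rcases h.prime_dvd (by norm_num) h1 with h2 | h2 <;> omega

/-- The mixed case is impossible. -/
theorem not_mixed (h : Pr5 A B) (hA : 3 ∣ (core A (A ⊓ B)).relIndex A) : 3 ∣ (core B (B ⊓ A)).relIndex B := by
  by_contra hB
  obtain ⟨φ, hφ⟩ := exists_hom5 (C := A ⊓ B) h.idx
  -- elements of 3-power order
  set P : G → Prop := fun x => ∃ k : ℕ, x ^ 3 ^ k = 1 with hPdef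
  have hPc : ∀ g x, P x → P (g * x * g⁻¹) := by
    rintro g x ⟨k, hk⟩
    exact ⟨k, by rw [conj_pow, hk]; group⟩
  have h1 : ∀ x ∈ B, P x → x ∈ A := by
    rintro x hx ⟨k, hk⟩
    have h2 : x ∈ core B (B ⊓ A) := by
      refine mem_of_pow_mem (m := 3 ^ k) (n := (core B (B ⊓ A)).relIndex B) ?_ hk
        (pow_relIndex_mem (le_Nm_core B (B ⊓ A)) hx)
      exact Nat.Coprime.pow_left k ((Nat.Prime.coprime_iff_not_dvd Nat.prime_three).2 hB)
    exact (core_le B (B ⊓ A) h2).2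
  have h2 : ∀ x ∈ A, P x → x ∈ B := eq_set_of_conj h.symm.conj hPc h1
  -- an element of 3-power order moving 0
  set σ : Equiv.Perm (Fin 5) := Equiv.swap 0 1 * Equiv.swap 1 2 with hσ
  obtain ⟨a, ha, h3⟩ := hφ.exists_alt hA σ (by rw [hσ]; decide)
  obtain ⟨k, m, hm, hk⟩ := Nat.exists_eq_pow_mul_and_not_dvd (n := orderOf a) (orderOf_pos a).ne' 3 (by norm_num)
  have h4 : P (a ^ m) := ⟨k, by rw [← pow_mul, mul_comm, ← hk, pow_orderOf_eq_one]⟩
  have h5 := h2 _ (A.pow_mem ha m) h4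
  have h6 : φ ⟨a ^ m, A.pow_mem ha m⟩ 0 = 0 := (hφ.stab _).1 ⟨A.pow_mem ha m, h5⟩
  have h7 : φ ⟨a ^ m, A.pow_mem ha m⟩ = σ ^ m := by
    rw [← h3, ← map_pow]
    rfl
  rw [h7] at h6
  have h8 : σ ^ 3 = 1 := by rw [hσ]; decide
  have h9 : σ ^ m = σ ^ (m % 3) := by
    conv_lhs => rw [← Nat.div_add_mod m 3, pow_add, pow_mul, h8, one_pow, one_mul]
  rw [h9] at h6
  have h10 : m % 3 = 1 ∨ m % 3 = 2 := by
    have : m % 3 ≠ 0 := fun h => hm (Nat.dvd_of_mod_eq_zero h)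
    omega
  rcases h10 with h10 | h10 <;> rw [h10, hσ] at h6 <;> revert h6 <;> decide

end


theorem relIndex_map_dvd {G' : Type*} [Group G'] (f : G →* G') {S C : Subgroup G} (h : S ≤ C) :
    (S.map f).relIndex (C.map f) ∣ S.relIndex C := by
  have h1 := Subgroup.index_map_dvd (S.subgroupOf C) (f.subgroupMap_surjective C)
  have h2 : (S.subgroupOf C).map (f.subgroupMap C) = (S.map f).subgroupOf (C.map f) := by
    ext ⟨y, hy⟩
    rw [Subgroup.mem_map, Subgroup.mem_subgroupOf, Subgroup.mem_map]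
    constructor
    · rintro ⟨x, hx, h3⟩
      exact ⟨x, hx, congrArg Subtype.val h3⟩
    · rintro ⟨x, hx, h3⟩
      exact ⟨⟨x, h hx⟩, hx, Subtype.ext h3⟩
  rw [h2] at h1
  exact h1

/-! ### the Klein four-group fixing 0 -/

abbrev v1 : Equiv.Perm (Fin 5) := Equiv.swap 1 2 * Equiv.swap 3 4
abbrev v2 : Equiv.Perm (Fin 5) := Equiv.swap 1 3 * Equiv.swap 2 4
abbrev v3 : Equiv.Perm (Fin 5) := Equiv.swap 1 4 * Equiv.swap 2 3

/-- the Klein four-group fixing 0 -/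
def V4 : Subgroup (Equiv.Perm (Fin 5)) where
  carrier := {σ | σ = 1 ∨ σ = v1 ∨ σ = v2 ∨ σ = v3}
  one_mem' := Or.inl rfl
  mul_mem' := by
    rintro a b (rfl | rfl | rfl | rfl) (rfl | rfl | rfl | rfl) <;> (simp only [Set.mem_ofPred_eq]; decide)
  inv_mem' := by
    rintro a (rfl | rfl | rfl | rfl) <;> (simp only [Set.mem_ofPred_eq]; decide)

theorem mem_V4 {σ : Equiv.Perm (Fin 5)} : σ ∈ V4 ↔ σ = 1 ∨ σ = v1 ∨ σ = v2 ∨ σ = v3 := Iff.rfl

instance decidableMemV4 : DecidablePred (· ∈ V4) := fun _ => decidable_of_iff _ mem_V4.symm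

theorem V4_card : Nat.card V4 = 4 := by
  rw [Nat.card_eq_fintype_card]
  decide +kernel

theorem V4_isPGroup : IsPGroup 2 V4 := IsPGroup.of_card (n := 2) (by rw [V4_card]; rfl)

theorem V4_norm : ∀ σ : Equiv.Perm (Fin 5), σ 0 = 0 → ∀ v : Equiv.Perm (Fin 5), (v = 1 ∨ v = v1 ∨ v = v2 ∨ v = v3) →
    (σ * v * σ⁻¹ = 1 ∨ σ * v * σ⁻¹ = v1 ∨ σ * v * σ⁻¹ = v2 ∨ σ * v * σ⁻¹ = v3) := by
  have key : ∀ σ : Equiv.Perm (Fin 5), σ 0 = 0 → ((σ * v1 * σ⁻¹ = 1 ∨ σ * v1 * σ⁻¹ = v1 ∨ σ * v1 * σ⁻¹ = v2 ∨ σ * v1 * σ⁻¹ = v3) ∧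
    (σ * v2 * σ⁻¹ = 1 ∨ σ * v2 * σ⁻¹ = v1 ∨ σ * v2 * σ⁻¹ = v2 ∨ σ * v2 * σ⁻¹ = v3) ∧
    (σ * v3 * σ⁻¹ = 1 ∨ σ * v3 * σ⁻¹ = v1 ∨ σ * v3 * σ⁻¹ = v2 ∨ σ * v3 * σ⁻¹ = v3)) := by decide +kernel
  rintro σ hσ v (rfl | rfl | rfl | rfl)
  · left
    group
  · exact (key σ hσ).1
  · exact (key σ hσ).2.1
  · exact (key σ hσ).2.2

theorem V4_trans : ∀ i j : Fin 5, i ≠ 0 → j ≠ 0 → (i = j ∨ v1 i = j ∨ v2 i = j ∨ v3 i = j) := by decide

section

variable {A C : Subgroup G} {φ : ↥A →* Equiv.Perm (Fin 5)}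

theorem Hom5.V4_le (h : Hom5 A C φ) (h3 : 3 ∣ (H399.core A C).relIndex A) :
    V4 ≤ (C.subgroupOf A).map φ := by
  intro v hv
  have h1 : Equiv.Perm.sign v = 1 ∧ v 0 = 0 := by
    rcases mem_V4.1 hv with rfl | rfl | rfl | rfl <;> decide
  obtain ⟨a, ha, h2⟩ := h.exists_alt h3 v h1.1
  refine ⟨⟨a, ha⟩, ?_, h2⟩
  show a ∈ C
  rw [h.stab ⟨a, ha⟩, h2]
  exact h1.2

/-- a Sylow 2-subgroup of `C` acts on the five points with image containing the Klein four-group -/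
theorem Hom5.V4_le_syl [Finite G] (h : Hom5 A C φ) (hCA : C ≤ A) (h3 : 3 ∣ (H399.core A C).relIndex A) {S : Subgroup G}
    (hS : IsSylowTwoIn S C) : V4 ≤ (S.subgroupOf A).map φ := by
  have h1 : IsSylowTwoIn ((S.subgroupOf A).map φ) ((C.subgroupOf A).map φ) := by
    refine ⟨Subgroup.map_mono (Subgroup.comap_mono hS.1), (hS.2.1.comap_of_injective _ A.subtype_injective).map φ, ?_⟩
    have h4 := relIndex_map_dvd φ (S := S.subgroupOf A) (C := C.subgroupOf A) (Subgroup.comap_mono hS.1)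
    rw [Subgroup.relIndex_subgroupOf hCA] at h4
    exact hS.2.2.of_dvd_nat h4
  refine le_syl_of_normal h1 V4_isPGroup (h.V4_le h3) ?_
  rw [le_Nm]
  rintro _ ⟨c, hc, rfl⟩ v hv
  exact V4_norm _ ((h.stab c).1 hc) v hv

end

end Cfsg.Agent.H209.Five
end

-- part: H209/Five/NonSolvB
section
/-!
# The nonsolvable case: existence of `g`, normal subgroups
-/

set_option autoImplicit false
set_option linter.unusedSectionVars false

open Pointwise

namespace Cfsg.Agent.H209.Five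

open Cfsg.Agent.H399
open Cfsg (IsSylowTwoIn)

variable {G : Type*} [Group G]

theorem five_dvd_of_trans (H : Subgroup (Equiv.Perm (Fin 5))) (h : ∀ i, ∃ σ ∈ H, σ 0 = i) : 5 ∣ Nat.card H := by
  have h1 : MulAction.orbit H (0 : Fin 5) = Set.univ := by
    ext i
    simp only [Set.mem_univ, iff_true]
    obtain ⟨σ, hσ, h2⟩ := h i
    exact ⟨⟨σ, hσ⟩, h2⟩
  have h2 := MulAction.index_stabilizer H (0 : Fin 5)
  rw [h1, Set.ncard_univ, Nat.card_fin] at h2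
  have h3 := Subgroup.index_dvd_card (MulAction.stabilizer H (0 : Fin 5))
  rwa [h2] at h3

theorem exists_syl [Finite G] (L : Subgroup G) : ∃ T, IsSylowTwoIn T L := H251.exists_isSylowTwoIn L

/-- Existence of `g`. -/
theorem exists_NS [Finite G] {A B : Subgroup G} (h : Pr5 A B) (hA : 3 ∣ (core A (A ⊓ B)).relIndex A) :
    ∃ g, NS A B g := by
  have hB := not_mixed h hA
  obtain ⟨g₀, hg₀⟩ := h.conj
  obtain ⟨S, hS⟩ := exists_syl (A ⊓ B)
  have hSA : IsSylowTwoIn S A := syl_trans hS inf_le_left (by rw [h.idx]; decide)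
  have hSB : IsSylowTwoIn S B := by
    refine syl_trans hS inf_le_right ?_
    have h1 := h.symm.idx
    rw [inf_comm] at h1
    rw [h1]
    decide
  have h2 := syl_cj hSA g₀
  rw [hg₀] at h2
  obtain ⟨b, hb, h3⟩ := syl_conj h2 hSB
  have h4 : cj (b * g₀) A = B := by rw [cj_mul, hg₀, cj_of_mem hb]
  have h5 : cj (b * g₀) S = S := by rw [cj_mul, h3]
  refine ⟨b * g₀, h, hA, hB, h4, ?_⟩
  set g := b * g₀ with hg
  obtain ⟨φ, hφ⟩ := exists_hom5 (C := B ⊓ A) h.symm.idx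
  have h6 : cj g (A ⊓ B) ≤ B := by
    rw [cj_inf, h4]
    exact inf_le_left
  have h7 : S ≤ cj g (A ⊓ B) := by
    rw [← h5, cj_le_cj]
    exact hS.1
  by_cases h8 : ∀ d, ∀ hd : d ∈ cj g (A ⊓ B), φ ⟨d, h6 hd⟩ 0 = 0
  · have h9 : cj g (A ⊓ B) ≤ A ⊓ B := by
      intro d hd
      have := (hφ.stab ⟨d, h6 hd⟩).2 (h8 d hd)
      rwa [inf_comm] at this
    exact Subgroup.eq_of_le_of_card_ge h9 (by rw [card_cj])
  · exfalso
    push Not at h8
    obtain ⟨d, hd, h9⟩ := h8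
    have h10 : V4 ≤ (S.subgroupOf B).map φ :=
      hφ.V4_le_syl inf_le_left hB (by rwa [inf_comm])
    have h11 : 5 ∣ Nat.card (((cj g (A ⊓ B)).subgroupOf B).map φ) := by
      apply five_dvd_of_trans
      have h12 : V4 ≤ ((cj g (A ⊓ B)).subgroupOf B).map φ :=
        h10.trans (Subgroup.map_mono (Subgroup.comap_mono h7))
      have h13 : φ ⟨d, h6 hd⟩ ∈ ((cj g (A ⊓ B)).subgroupOf B).map φ := ⟨⟨d, h6 hd⟩, hd, rfl⟩
      intro i
      by_cases hi : i = 0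
      · exact ⟨1, Subgroup.one_mem _, hi.symm⟩
      · have h14 : ∃ v ∈ V4, v (φ ⟨d, h6 hd⟩ 0) = i := by
          rcases V4_trans _ _ h9 hi with h15 | h15 | h15 | h15
          · exact ⟨1, mem_V4.2 (Or.inl rfl), h15⟩
          · exact ⟨v1, mem_V4.2 (Or.inr (Or.inl rfl)), h15⟩
          · exact ⟨v2, mem_V4.2 (Or.inr (Or.inr (Or.inl rfl))), h15⟩
          · exact ⟨v3, mem_V4.2 (Or.inr (Or.inr (Or.inr rfl))), h15⟩
        obtain ⟨v, hv, h15⟩ := h14
        exact ⟨v * φ ⟨d, h6 hd⟩, Subgroup.mul_mem _ (h12 hv) h13, h15⟩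
    apply h.not_five_dvd
    have h16 : Nat.card (((cj g (A ⊓ B)).subgroupOf B).map φ) ∣ Nat.card ↥((cj g (A ⊓ B)).subgroupOf B) :=
      Subgroup.card_map_dvd _ _
    have h17 : Nat.card ↥((cj g (A ⊓ B)).subgroupOf B) = Nat.card ↥(A ⊓ B) := by
      rw [Nat.card_congr (Subgroup.subgroupOfEquivOfLe h6).toEquiv, card_cj]
    rw [← h17]
    exact h11.trans h16

/-! ### normal subgroups -/

/-- `φ(L)` contains the alternating group -/
def HasAlt {A : Subgroup G} (φ : ↥A →* Equiv.Perm (Fin 5)) (L : Subgroup G) : Prop :=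
  ∀ σ : Equiv.Perm (Fin 5), Equiv.Perm.sign σ = 1 → ∃ l : A, (l : G) ∈ L ∧ φ l = σ

theorem comm_alt_key : ∀ σ : Equiv.Perm (Fin 5), σ * (Equiv.swap 0 1 * Equiv.swap 1 2) = (Equiv.swap 0 1 * Equiv.swap 1 2) * σ →
    σ * (Equiv.swap 2 3 * Equiv.swap 3 4) = (Equiv.swap 2 3 * Equiv.swap 3 4) * σ → σ = 1 := by decide +kernel

section

variable {A C : Subgroup G} {φ : ↥A →* Equiv.Perm (Fin 5)}

theorem Hom5.hasAlt (h : Hom5 A C φ) (h3 : 3 ∣ (H399.core A C).relIndex A) : HasAlt φ A := fun σ hσ => by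
  obtain ⟨a, ha, h1⟩ := h.exists_alt h3 σ hσ
  exact ⟨⟨a, ha⟩, ha, h1⟩

theorem HasAlt.mono {L M : Subgroup G} (hL : HasAlt φ L) (hLM : L ≤ M) : HasAlt φ M := fun σ hσ => by
  obtain ⟨l, hl, h1⟩ := hL σ hσ
  exact ⟨l, hLM hl, h1⟩

/-- A subgroup normalised by `L`, `φ(L) ≥ A₅`, with nontrivial image has image containing `A₅`. -/
theorem Hom5.normal_alt (h : Hom5 A C φ) {L N : Subgroup G} (hL : HasAlt φ L) (hNA : N ≤ A) (hLN : L ≤ Nm N)
    (hN : ¬ N ≤ H399.core A C) : HasAlt φ N := by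
  set M : Subgroup (Equiv.Perm (Fin 5)) := (N.subgroupOf A).map φ with hM
  have hconj : ∀ σ : Equiv.Perm (Fin 5), Equiv.Perm.sign σ = 1 → ∀ τ ∈ M, σ * τ * σ⁻¹ ∈ M := by
    rintro σ hσ _ ⟨x, hx, rfl⟩
    obtain ⟨l, hl, rfl⟩ := hL σ hσ
    refine ⟨l * x * l⁻¹, ?_, by simp⟩
    exact le_Nm.1 hLN l hl x hx
  have hn : (M.subgroupOf (alternatingGroup (Fin 5))).Normal := by
    constructor
    intro n hn a
    exact hconj a (Equiv.Perm.mem_alternatingGroup.1 a.2) n hn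
  have hsimple : IsSimpleGroup (alternatingGroup (Fin 5)) := alternatingGroup.isSimpleGroup (by simp)
  rcases hsimple.eq_bot_or_eq_top_of_normal _ hn with h1 | h1
  · exfalso
    apply hN
    intro n hn'
    rw [h.ker ⟨n, hNA hn'⟩]
    set m := φ ⟨n, hNA hn'⟩ with hm
    have hmM : m ∈ M := ⟨⟨n, hNA hn'⟩, hn', rfl⟩
    have key : ∀ σ : Equiv.Perm (Fin 5), Equiv.Perm.sign σ = 1 → m * σ = σ * m := by
      intro σ hσ
      have h2 : σ * m * σ⁻¹ * m⁻¹ ∈ M := M.mul_mem (hconj σ hσ m hmM) (M.inv_mem hmM)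
      have h3 : σ * m * σ⁻¹ * m⁻¹ ∈ alternatingGroup (Fin 5) := by
        rw [Equiv.Perm.mem_alternatingGroup, map_mul, map_mul, map_mul, map_inv, map_inv, hσ]
        simp
      have h4 : (⟨_, h3⟩ : alternatingGroup (Fin 5)) ∈ M.subgroupOf (alternatingGroup (Fin 5)) := h2
      rw [h1, Subgroup.mem_bot] at h4
      have h5 : σ * m * σ⁻¹ * m⁻¹ = 1 := congrArg Subtype.val h4
      rw [mul_inv_eq_one, mul_inv_eq_iff_eq_mul] at h5
      exact h5.symm
    exact comm_alt_key m (key _ (by decide)) (key _ (by decide))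
  · intro σ hσ
    have h2 : (⟨σ, Equiv.Perm.mem_alternatingGroup.2 hσ⟩ : alternatingGroup (Fin 5)) ∈
        M.subgroupOf (alternatingGroup (Fin 5)) := by
      rw [h1]
      exact Subgroup.mem_top _
    obtain ⟨x, hx, h3⟩ := h2
    exact ⟨x, hx, h3⟩

theorem alt_trans_key : ∀ i : Fin 5, ∃ j k : Fin 5, Equiv.Perm.sign (Equiv.swap 0 i * Equiv.swap j k) = 1 ∧
    (Equiv.swap 0 i * Equiv.swap j k : Equiv.Perm (Fin 5)) 0 = i ∨ i = 0 := by decide +kernel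

/-- `A = L C` when `φ(L) ≥ A₅` -/
theorem Hom5.le_sup (h : Hom5 A C φ) {L : Subgroup G} (hL : HasAlt φ L) {a : G} (ha : a ∈ A) :
    ∃ l ∈ L, l ∈ A ∧ ∃ c ∈ C, c ∈ A ∧ l * c = a := by
  obtain ⟨j, k, h1⟩ := alt_trans_key (φ ⟨a, ha⟩ 0)
  rcases h1 with ⟨h1, h2⟩ | h1
  · obtain ⟨l, hl, h3⟩ := hL _ h1
    refine ⟨l, hl, l.2, (l : G)⁻¹ * a, ?_, A.mul_mem (A.inv_mem l.2) ha, by group⟩
    have h4 := (h.stab (l⁻¹ * ⟨a, ha⟩)).2 (by
      rw [map_mul, map_inv, Equiv.Perm.mul_apply, ← h2, ← h3, Equiv.Perm.inv_def, Equiv.symm_apply_apply])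
    exact h4
  · exact ⟨1, L.one_mem, A.one_mem, a, (h.stab ⟨a, ha⟩).2 h1, ha, one_mul a⟩

end

end Cfsg.Agent.H209.Five
end

-- part: H209/Five/Push
section
/-!
# The nonsolvable case: interfaces before (`Pre`) and after (`Push`) pushing up
-/

set_option autoImplicit false
set_option linter.unusedSectionVars false

open Pointwise

namespace Cfsg.Agent.H209.Five

open Cfsg.Agent.H399

variable {G : Type*} [Group G]

/-- The facts known before pushing up, `A`-side. `D = A ⊓ B`, `T = Op 2 D`, `Q₁ = Op 2 A`, `K₁ = core A D`, `L₁ = LL A B`. -/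
structure Pre (A B : Subgroup G) (g : G) : Prop extends NS A B g where
  QT : Op 2 A ≤ Op 2 (A ⊓ B)
  QK : Op 2 A ≤ core A (A ⊓ B)
  TK : Op 2 (A ⊓ B) ⊓ core A (A ⊓ B) = Op 2 A
  Tidx : (Op 2 A).relIndex (Op 2 (A ⊓ B)) = 4
  /-- a normal 2-subgroup of `D` not contained in `K₁` covers `T / Q₁` -/
  cov : ∀ N ≤ A ⊓ B, A ⊓ B ≤ Nm N → IsPGroup 2 N → ¬ N ≤ core A (A ⊓ B) → N ⊔ Op 2 A = Op 2 (A ⊓ B)
  /-- `T / Q₁` is elementary abelian -/
  Tsq : ∀ t ∈ Op 2 (A ⊓ B), t * t ∈ Op 2 A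
  Lle : LL A B ≤ A
  Lalt : ∀ φ : ↥A →* Equiv.Perm (Fin 5), Hom5 A (A ⊓ B) φ → HasAlt φ (LL A B)
  Leven : ∀ φ : ↥A →* Equiv.Perm (Fin 5), Hom5 A (A ⊓ B) φ → ∀ l : A, (l : G) ∈ LL A B → Equiv.Perm.sign (φ l) = 1
  LD : A ≤ LL A B ⊔ A ⊓ B
  /-- `[K₁, L₁] ≤ Q₁` -/
  comm : ∀ k ∈ core A (A ⊓ B), ∀ l ∈ LL A B, k * l * k⁻¹ * l⁻¹ ∈ Op 2 A
  cores : core A (A ⊓ B) ⊓ core B (B ⊓ A) = Op 2 A ⊓ Op 2 B
  /-- `C_A(Q₁) ≤ Q₁` -/
  cent : ∀ x ∈ A, (∀ y ∈ Op 2 A, y * x = x * y) → x ∈ Op 2 A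
  /-- no nontrivial characteristic subgroup of `D` is normal in `A` -/
  char : ∀ C ≤ A ⊓ B, cj g C = C → A ≤ Nm C → C = ⊥

/-- The facts known after pushing up (S2764, S2765), `A`-side. -/
structure Push (A B : Subgroup G) (g : G) : Prop extends Pre A B g where
  LK : LL A B ⊓ core A (A ⊓ B) = Op 2 A
  Lcard : (Op 2 A).relIndex (LL A B) = 60
  /-- `T` has class at most 2 -/
  cls : ∀ x ∈ Op 2 (A ⊓ B), ∀ y ∈ Op 2 (A ⊓ B), ∀ z ∈ Op 2 (A ⊓ B),
    x * y * x⁻¹ * y⁻¹ * z = z * (x * y * x⁻¹ * y⁻¹)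
  /-- `L₁ = ⟨T, Tᵃ⟩` -/
  Lgen : ∃ a ∈ A, LL A B = Op 2 (A ⊓ B) ⊔ cj a (Op 2 (A ⊓ B))
  simple : ∀ N ≤ LL A B, Op 2 A ≤ N → LL A B ≤ Nm N → N = Op 2 A ∨ N = LL A B
  nonab : ∃ x ∈ LL A B, ∃ y ∈ LL A B, x * y * x⁻¹ * y⁻¹ ∉ Op 2 A
  /-- noncentral chief factors of `L₁` inside `Q₁` are natural `SL₂(4)`-modules -/
  chief : ∀ U W : Subgroup G, W ≤ U → U ≤ Op 2 A → LL A B ≤ Nm U → LL A B ≤ Nm W → W ≠ U →
    (∀ N, W ≤ N → N ≤ U → LL A B ≤ Nm N → N = W ∨ N = U) →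
    ¬ (∀ u ∈ U, ∀ l ∈ LL A B, l * u * l⁻¹ * u⁻¹ ∈ W) →
    ∃ (ρ : ↥(LL A B) →* SL24) (ψ : ↥U → (Fin 2 → F4)), Function.Surjective ρ ∧ Function.Surjective ψ ∧
      (∀ x y : U, ψ (x * y) = ψ x + ψ y) ∧
      (∀ l : LL A B, ρ l = 1 ↔ ∀ u ∈ U, (l : G) * u * (l : G)⁻¹ * u⁻¹ ∈ W) ∧
      (∀ u : U, ψ u = 0 ↔ (u : G) ∈ W) ∧
      (∀ (l : LL A B) (q q' : U), (q' : G) = l * q * (l : G)⁻¹ → ψ q' = (ρ l).1.mulVec (ψ q))

end Cfsg.Agent.H209.Five
end

-- part: H209/Five/NatKit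
section
/-!
# Toolkit for the configuration `Nat5` (natural `SL₂(4)`-modules)
-/

set_option autoImplicit false
set_option linter.unusedSectionVars false

open Pointwise
open scoped commutatorElement

namespace Cfsg.Agent.H209.Five

open Cfsg.Agent.H399

variable {G : Type*} [Group G]

namespace NK

theorem card_F4 : Nat.card F4 = 4 := GaloisField.card 2 2 (by norm_num)

theorem card_V : Nat.card (Fin 2 → F4) = 16 := by
  rw [Nat.card_fun, card_F4, Nat.card_eq_fintype_card, Fintype.card_fin]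
  norm_num

instance finite_F4 : Finite F4 := Nat.finite_of_card_ne_zero (by rw [card_F4]; norm_num)

/-- a first column -/
theorem exists_col (v : Fin 2 → F4) (hv : v ≠ 0) : ∃ M : SL24, M.1.mulVec ![1, 0] = v := by
  by_cases h0 : v 0 = 0
  · have h1 : v 1 ≠ 0 := by
      intro h1
      apply hv
      funext i
      fin_cases i
      · exact h0
      · exact h1
    refine ⟨⟨!![0, -(v 1)⁻¹; v 1, 0], ?_⟩, ?_⟩
    · rw [Matrix.det_fin_two_of]
      field_simp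
      ring
    · funext i
      fin_cases i
      · simp [Matrix.mulVec, dotProduct, h0]
      · simp [Matrix.mulVec, dotProduct]
  · refine ⟨⟨!![v 0, 0; v 1, (v 0)⁻¹], ?_⟩, ?_⟩
    · rw [Matrix.det_fin_two_of]
      field_simp
      ring
    · funext i
      fin_cases i
      · simp [Matrix.mulVec, dotProduct]
      · simp [Matrix.mulVec, dotProduct]

theorem exists_map (v w : Fin 2 → F4) (hv : v ≠ 0) (hw : w ≠ 0) : ∃ M : SL24, M.1.mulVec v = w := by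
  obtain ⟨M, hM⟩ := exists_col v hv
  obtain ⟨N, hN⟩ := exists_col w hw
  refine ⟨N * M⁻¹, ?_⟩
  rw [← hM, Matrix.SpecialLinearGroup.coe_mul, Matrix.mulVec_mulVec, Matrix.mul_assoc,
    ← Matrix.SpecialLinearGroup.coe_mul, inv_mul_cancel, Matrix.SpecialLinearGroup.coe_one, Matrix.mul_one, hN]

theorem two_eq : (2 : F4) = 0 := by
  have := CharP.cast_eq_zero F4 2
  simpa using this

theorem add_self (x : F4) : x + x = 0 := by
  have : x + x = 2 * x := by ring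
  rw [this, two_eq, zero_mul]

theorem neg_eq (x : F4) : -x = x := by
  rw [neg_eq_iff_add_eq_zero]
  exact add_self x

theorem mul_self_eq (M : SL24) (v : Fin 2 → F4) (hv : v ≠ 0) (h : M.1.mulVec v = v) : M * M = 1 := by
  obtain ⟨N, hN⟩ : ∃ N : Matrix (Fin 2) (Fin 2) F4, N = M.1 := ⟨_, rfl⟩
  have hM := M.2
  have h0 := congrFun h 0
  have h1 := congrFun h 1
  simp only [Matrix.mulVec, dotProduct, Fin.sum_univ_two] at h0 h1
  rw [Matrix.det_fin_two] at hM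
  have hMM : (M * M).1 = M.1 * M.1 := rfl
  rw [← hN] at hM h0 h1 hMM
  have hdet : (N 0 0 - 1) * (N 1 1 - 1) - N 0 1 * N 1 0 = 0 := by
    by_cases hv0 : v 0 = 0
    · have hv1 : v 1 ≠ 0 := by
        intro h1
        apply hv
        funext i
        fin_cases i
        · exact hv0
        · exact h1
      apply mul_right_cancel₀ hv1
      linear_combination (N 0 0 - 1) * h1 - N 1 0 * h0
    · apply mul_right_cancel₀ hv0
      linear_combination (N 1 1 - 1) * h0 - N 0 1 * h1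
  have htr : N 0 0 + N 1 1 = 0 := by
    linear_combination hM - hdet + two_eq
  have htr' : N 1 1 = N 0 0 := by
    rw [add_eq_zero_iff_eq_neg, neg_eq] at htr
    exact htr.symm
  apply Matrix.SpecialLinearGroup.ext
  intro i j
  rw [htr'] at hM
  have h2 : (M * M).1 i j = N i 0 * N 0 j + N i 1 * N 1 j := by
    rw [hMM, Matrix.mul_apply, Fin.sum_univ_two]
  change (M * M).1 i j = (1 : SL24).1 i j
  rw [h2, Matrix.SpecialLinearGroup.coe_one]
  fin_cases i <;> fin_cases j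
  · change N 0 0 * N 0 0 + N 0 1 * N 1 0 = 1
    linear_combination hM + N 0 1 * N 1 0 * two_eq
  · change N 0 0 * N 0 1 + N 0 1 * N 1 1 = 0
    rw [htr']
    linear_combination N 0 0 * N 0 1 * two_eq
  · change N 1 0 * N 0 0 + N 1 1 * N 1 0 = 0
    rw [htr']
    linear_combination N 0 0 * N 1 0 * two_eq
  · change N 1 0 * N 0 1 + N 1 1 * N 1 1 = 1
    rw [htr']
    linear_combination hM + N 0 1 * N 1 0 * two_eq

theorem card_fix (M : SL24) (hM : M ≠ 1) (S : Set (Fin 2 → F4)) (hS : ∀ v ∈ S, M.1.mulVec v = v) : Nat.card S ≤ 4 := by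
  obtain ⟨i, j, hij⟩ : ∃ i j, M.1 i j - (1 : Matrix (Fin 2) (Fin 2) F4) i j ≠ 0 := by
    by_contra hcon
    push Not at hcon
    apply hM
    apply Matrix.SpecialLinearGroup.ext
    intro i j
    rw [Matrix.SpecialLinearGroup.coe_one]
    exact sub_eq_zero.1 (hcon i j)
  -- the equation `r 0 v 0 + r 1 v 1 = 0`
  have hr : ∀ v ∈ S, (M.1 i 0 - (1 : Matrix (Fin 2) (Fin 2) F4) i 0) * v 0 +
      (M.1 i 1 - (1 : Matrix (Fin 2) (Fin 2) F4) i 1) * v 1 = 0 := by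
    intro v hv
    have h1 := congrFun (hS v hv) i
    simp only [Matrix.mulVec, dotProduct, Fin.sum_univ_two] at h1
    have h2 : v i = (1 : Matrix (Fin 2) (Fin 2) F4) i 0 * v 0 + (1 : Matrix (Fin 2) (Fin 2) F4) i 1 * v 1 := by
      have h3 := congrFun (Matrix.one_mulVec v) i
      simp only [Matrix.mulVec, dotProduct, Fin.sum_univ_two] at h3
      exact h3.symm
    rw [h2] at h1
    linear_combination h1
  -- the other coordinate determines `v`
  have key : ∃ k : Fin 2, Function.Injective (fun v : S => v.1 k) := by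
    fin_cases j
    · refine ⟨1, fun v w hvw => ?_⟩
      have h1 := hr v v.2
      have h2 := hr w w.2
      change v.1 1 = w.1 1 at hvw
      rw [← hvw] at h2
      have h3 : (M.1 i 0 - (1 : Matrix (Fin 2) (Fin 2) F4) i 0) * (v.1 0 - w.1 0) = 0 := by
        linear_combination h1 - h2
      have h4 := (mul_eq_zero.1 h3).resolve_left hij
      apply Subtype.ext
      funext k
      fin_cases k
      · exact sub_eq_zero.1 h4
      · exact hvw
    · refine ⟨0, fun v w hvw => ?_⟩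
      have h1 := hr v v.2
      have h2 := hr w w.2
      change v.1 0 = w.1 0 at hvw
      rw [← hvw] at h2
      have h3 : (M.1 i 1 - (1 : Matrix (Fin 2) (Fin 2) F4) i 1) * (v.1 1 - w.1 1) = 0 := by
        linear_combination h1 - h2
      have h4 := (mul_eq_zero.1 h3).resolve_left hij
      apply Subtype.ext
      funext k
      fin_cases k
      · exact hvw
      · exact sub_eq_zero.1 h4
  obtain ⟨k, hk⟩ := key
  rw [← card_F4]
  exact Nat.card_le_card_of_injective _ hk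

/-- `SL₂(4)` is perfect -/
theorem perfect : commutator SL24 = ⊤ := by
  obtain ⟨a, ha, ha1⟩ : ∃ a : F4, a ≠ 0 ∧ a ≠ 1 := by
    by_contra hcon
    push Not at hcon
    have h1 : Nat.card F4 ≤ 2 := by
      have h2 : Function.Surjective (fun b : Bool => if b then (1 : F4) else 0) := by
        intro x
        by_cases hx : x = 0
        · exact ⟨false, by simp [hx]⟩
        · exact ⟨true, by simp [hcon x hx]⟩
      have h3 := Nat.card_le_card_of_surjective _ h2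
      simpa using h3
    rw [card_F4] at h1
    omega
  apply Matrix.SL2.commutator_eq_top (a := a) ha
  intro h
  apply ha1
  have h1 : (a - 1) * (a - 1) = 0 := by
    linear_combination h - (a - 1) * two_eq
  exact sub_eq_zero.1 (mul_self_eq_zero.1 h1)

end NK

section
variable {Q L : Subgroup G} {ρ : ↥L →* SL24} {ψ : ↥Q → (Fin 2 → F4)}

theorem NatMod.map_one (h : NatMod Q L ρ ψ) : ψ 1 = 0 := (h.kerQ 1).2 (one_mem _)

theorem NatMod.map_inv (h : NatMod Q L ρ ψ) (x : Q) : ψ x⁻¹ = -ψ x := by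
  have h1 := h.mul x x⁻¹
  rw [mul_inv_cancel, h.map_one] at h1
  exact (neg_eq_of_add_eq_zero_right h1.symm).symm

/-- the homomorphism `Q → F²` -/
def NatMod.hom (h : NatMod Q L ρ ψ) : ↥Q →* Multiplicative (Fin 2 → F4) where
  toFun q := Multiplicative.ofAdd (ψ q)
  map_one' := by rw [h.map_one]; rfl
  map_mul' x y := by rw [h.mul]; rfl

theorem NatMod.mem_iff (h : NatMod Q L ρ ψ) {x y : G} (hx : x ∈ Q) (hy : y ∈ Q) :
    x * y⁻¹ ∈ Subgroup.centralizer (L : Set G) ↔ ψ ⟨x, hx⟩ = ψ ⟨y, hy⟩ := by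
  have h1 := h.kerQ (⟨x, hx⟩ * ⟨y, hy⟩⁻¹)
  rw [h.mul, h.map_inv, ← sub_eq_add_neg, sub_eq_zero] at h1
  exact h1.symm

theorem NatMod.conj (h : NatMod Q L ρ ψ) {l x : G} (hl : l ∈ L) (hx : x ∈ Q) (hlx : l * x * l⁻¹ ∈ Q) :
    ψ ⟨l * x * l⁻¹, hlx⟩ = (ρ ⟨l, hl⟩).1.mulVec (ψ ⟨x, hx⟩) :=
  h.act ⟨l, hl⟩ ⟨x, hx⟩ ⟨l * x * l⁻¹, hlx⟩ rfl

theorem NatMod.relIndex_eq (h : NatMod Q L ρ ψ) {Y : Subgroup G} (hY : Y ≤ Q) :
    (Subgroup.centralizer (L : Set G)).relIndex Y = Nat.card ((Y.subgroupOf Q).map h.hom) := by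
  rw [← Subgroup.relIndex_ker, ← Subgroup.relIndex_subgroupOf hY]
  congr 1
  ext q
  rw [MonoidHom.mem_ker]
  exact (h.kerQ q).symm

theorem NatMod.relIndex_Q (h : NatMod Q L ρ ψ) : (Subgroup.centralizer (L : Set G)).relIndex Q = 16 := by
  have h1 : h.hom.range = ⊤ := by
    rw [MonoidHom.range_eq_top]
    intro v
    obtain ⟨q, hq⟩ := h.surjQ (Multiplicative.toAdd v)
    exact ⟨q, hq⟩
  rw [h.relIndex_eq le_rfl, Subgroup.subgroupOf_self, ← MonoidHom.range_eq_map, h1, Subgroup.card_top]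
  exact NK.card_V

end

section
variable [Finite G] {Q L : Subgroup G} {ρ : ↥L →* SL24} {ψ : ↥Q → (Fin 2 → F4)}

/-- `|Q| = 16 |C_Q(L)|` -/
theorem NatMod.card (h : NatMod Q L ρ ψ) :
    Nat.card Q = 16 * Nat.card ↥(Q ⊓ Subgroup.centralizer (L : Set G)) := by
  have h1 := card_inf_mul_relIndex Q (Subgroup.centralizer (L : Set G))
  rw [h.relIndex_Q, inf_comm] at h1
  omega

/-- `L` is transitive on the nontrivial elements of `Q / C_Q(L)` -/
theorem NatMod.trans (h : NatMod Q L ρ ψ) (hL : L ≤ Nm Q) {x y : G} (hx : x ∈ Q) (hy : y ∈ Q)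
    (hx' : x ∉ Subgroup.centralizer (L : Set G)) (hy' : y ∉ Subgroup.centralizer (L : Set G)) :
    ∃ l ∈ L, l * x * l⁻¹ * y⁻¹ ∈ Subgroup.centralizer (L : Set G) := by
  obtain ⟨M, hM⟩ := NK.exists_map (ψ ⟨x, hx⟩) (ψ ⟨y, hy⟩) (fun e => hx' ((h.kerQ _).1 e))
    (fun e => hy' ((h.kerQ _).1 e))
  obtain ⟨l, hl⟩ := h.surjL M
  refine ⟨l, l.2, ?_⟩
  have hlx := le_Nm.1 hL l l.2 x hx
  rw [h.mem_iff hlx hy, h.conj l.2 hx]
  rw [← hM, ← hl]

/-- an element of `L` fixing a nontrivial element of `Q / C_Q(L)` is an involution modulo `Q` -/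
theorem NatMod.sq_mem (h : NatMod Q L ρ ψ) (hL : L ≤ Nm Q) {l x : G} (hl : l ∈ L) (hx : x ∈ Q)
    (h1 : l * x * l⁻¹ * x⁻¹ ∈ Subgroup.centralizer (L : Set G)) (h2 : x ∉ Subgroup.centralizer (L : Set G)) :
    l * l ∈ Q := by
  have hlx := le_Nm.1 hL l hl x hx
  rw [h.mem_iff hlx hx, h.conj hl hx] at h1
  have h3 := NK.mul_self_eq _ _ (fun e => h2 ((h.kerQ _).1 e)) h1
  rw [← map_mul] at h3
  exact (h.kerL _).1 h3

/-- an element `l ∈ L - Q` fixes at most 4 elements of `Q / C_Q(L)` -/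
theorem NatMod.card_fix (h : NatMod Q L ρ ψ) (hL : L ≤ Nm Q) {l : G} (hl : l ∈ L) (hlQ : l ∉ Q)
    {Y : Subgroup G} (hY : Y ≤ Q) (h1 : ∀ y ∈ Y, l * y * l⁻¹ * y⁻¹ ∈ Subgroup.centralizer (L : Set G)) :
    Nat.card Y ≤ 4 * Nat.card ↥(Q ⊓ Subgroup.centralizer (L : Set G)) := by
  have h2 := card_inf_mul_relIndex Y (Subgroup.centralizer (L : Set G))
  have h3 : (Subgroup.centralizer (L : Set G)).relIndex Y ≤ 4 := by
    rw [h.relIndex_eq hY]
    refine NK.card_fix (ρ ⟨l, hl⟩) (fun e => hlQ ((h.kerL _).1 e)) _ ?_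
    rintro _ ⟨q, hq, rfl⟩
    have hlq := le_Nm.1 hL l hl q q.2
    have h4 := h1 q hq
    rw [h.mem_iff hlq q.2, h.conj hl q.2] at h4
    exact h4
  have h4 : Nat.card ↥(Subgroup.centralizer (L : Set G) ⊓ Y) ≤ Nat.card ↥(Q ⊓ Subgroup.centralizer (L : Set G)) :=
    Nat.card_le_card_of_injective _ (Subgroup.inclusion_injective
      (le_inf (inf_le_right.trans hY) inf_le_left))
  rw [← h2, mul_comm]
  exact Nat.mul_le_mul h3 h4

/-- an `L`-invariant subgroup of `Q` that contains `C_Q(L)` and something else is `Q` -/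
theorem NatMod.eq_of_invariant (h : NatMod Q L ρ ψ) (hL : L ≤ Nm Q) {Y : Subgroup G} (hY : Y ≤ Q) (hLY : L ≤ Nm Y)
    (h1 : Q ⊓ Subgroup.centralizer (L : Set G) ≤ Y) {y : G} (hy : y ∈ Y) (h2 : y ∉ Subgroup.centralizer (L : Set G)) :
    Y = Q := by
  apply le_antisymm hY
  intro x hx
  by_cases hx' : x ∈ Subgroup.centralizer (L : Set G)
  · exact h1 ⟨hx, hx'⟩
  · obtain ⟨l, hl, h3⟩ := h.trans hL (hY hy) hx h2 hx'
    have h4 := le_Nm.1 hLY l hl y hy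
    have h5 : l * y * l⁻¹ * x⁻¹ ∈ Y := h1 ⟨Q.mul_mem (hY h4) (Q.inv_mem hx), h3⟩
    have h6 : x⁻¹ ∈ Y := (Y.mul_mem_cancel_left h4).1 h5
    exact Y.inv_mem_iff.1 h6

end

section
variable [Finite G] {A B : Subgroup G} {g : G} {m : ℕ}

theorem Nat5.L_le_Nm (h : Nat5 A B g m) : LL A B ≤ Nm (Op 2 A) := h.Lle.trans (le_Nm_Op 2 A)

theorem Nat5.K_le_A (_h : Nat5 A B g m) : core A (A ⊓ B) ≤ A := (core_le _ _).trans inf_le_left

theorem Nat5.K_le_B (_h : Nat5 A B g m) : core A (A ⊓ B) ≤ B := (core_le _ _).trans inf_le_right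

theorem Nat5.A_le_Nm_L (_h : Nat5 A B g m) : A ≤ Nm (LL A B) := le_Nm_ncl A _

/-- `C_{K₁}` acts semiregularly on the nontrivial elements of `Q₁ / C₁` -/
theorem Nat5.semireg (h : Nat5 A B g m) {k x : G} (hk : k ∈ core A (A ⊓ B)) (hx : x ∈ Op 2 A)
    (h1 : k * x * k⁻¹ * x⁻¹ ∈ Subgroup.centralizer (LL A B : Set G))
    (h2 : x ∉ Subgroup.centralizer (LL A B : Set G)) : k ∈ Op 2 A := by
  have hab := h.pair.ea₁.comm
  have hkA : k ∈ A := h.K_le_A hk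
  have hkQ : ∀ q ∈ Op 2 A, k * q * k⁻¹ ∈ Op 2 A := fun q hq => le_Nm.1 (le_Nm_Op 2 A) k hkA q hq
  have hlQ : ∀ l ∈ LL A B, ∀ q ∈ Op 2 A, l * q * l⁻¹ ∈ Op 2 A := fun l hl q hq => le_Nm.1 h.L_le_Nm l hl q hq
  set F : Subgroup G :=
    { carrier := {q | q ∈ Op 2 A ∧ k * q * k⁻¹ * q⁻¹ ∈ Subgroup.centralizer (LL A B : Set G)}
      one_mem' := ⟨one_mem _, by
        have : k * 1 * k⁻¹ * 1⁻¹ = (1 : G) := by group
        rw [this]; exact one_mem _⟩
      mul_mem' := by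
        rintro a b ⟨ha, ha'⟩ ⟨hb, hb'⟩
        refine ⟨mul_mem ha hb, ?_⟩
        have h3 := hab (k * b * k⁻¹ * b⁻¹) (mul_mem (hkQ b hb) (inv_mem hb)) a⁻¹ (inv_mem ha)
        have h4 : k * (a * b) * k⁻¹ * (a * b)⁻¹ = (k * a * k⁻¹ * a⁻¹) * (k * b * k⁻¹ * b⁻¹) := by
          calc k * (a * b) * k⁻¹ * (a * b)⁻¹ = (k * a * k⁻¹) * ((k * b * k⁻¹ * b⁻¹) * a⁻¹) := by group
            _ = _ := by rw [h3]; group
        rw [h4]
        exact mul_mem ha' hb'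
      inv_mem' := by
        rintro a ⟨ha, ha'⟩
        refine ⟨inv_mem ha, ?_⟩
        have h3 := hab (k * a * k⁻¹)⁻¹ (inv_mem (hkQ a ha)) a ha
        have h4 : k * a⁻¹ * k⁻¹ * a⁻¹⁻¹ = (k * a * k⁻¹ * a⁻¹)⁻¹ := by
          calc k * a⁻¹ * k⁻¹ * a⁻¹⁻¹ = (k * a * k⁻¹)⁻¹ * a := by group
            _ = _ := by rw [h3]; group
        rw [h4]
        exact inv_mem ha' } with hF
  have hmemF : ∀ q, q ∈ F ↔ q ∈ Op 2 A ∧ k * q * k⁻¹ * q⁻¹ ∈ Subgroup.centralizer (LL A B : Set G) := fun q => Iff.rfl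
  obtain ⟨ρ, ψ, hn⟩ := h.nat
  have hFQ : F = Op 2 A := by
    refine hn.eq_of_invariant h.L_le_Nm (fun q hq => hq.1) ?_ ?_ (y := x) ⟨hx, h1⟩ h2
    · rw [le_Nm]
      rintro l hl q ⟨hq, hq'⟩
      refine ⟨hlQ l hl q hq, ?_⟩
      have hu := h.comm k hk l hl
      have hc : ∀ y ∈ LL A B, y * (k * q * k⁻¹ * q⁻¹) = (k * q * k⁻¹ * q⁻¹) * y := Subgroup.mem_centralizer_iff.1 hq'
      have h3 := hab (k * l * k⁻¹ * l⁻¹) hu (l * (k * q * k⁻¹) * l⁻¹) (hlQ l hl _ (hkQ q hq))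
      have h4 : k * (l * q * l⁻¹) * k⁻¹ * (l * q * l⁻¹)⁻¹ = k * q * k⁻¹ * q⁻¹ := by
        calc k * (l * q * l⁻¹) * k⁻¹ * (l * q * l⁻¹)⁻¹
            = (k * l * k⁻¹ * l⁻¹) * (l * (k * q * k⁻¹) * l⁻¹) * (k * l * k⁻¹ * l⁻¹)⁻¹ * (l * q * l⁻¹)⁻¹ := by group
          _ = (l * (k * q * k⁻¹) * l⁻¹) * (l * q * l⁻¹)⁻¹ := by rw [h3]; group
          _ = (l * (k * q * k⁻¹ * q⁻¹)) * l⁻¹ := by group
          _ = _ := by rw [hc l hl]; group
      rw [h4]
      exact hq'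
    · rintro q ⟨hq, hq'⟩
      refine ⟨hq, mul_mem ?_ (inv_mem hq')⟩
      have hN : A ≤ Nm (Subgroup.centralizer (LL A B : Set G)) := by
        rw [le_Nm]
        intro a ha c hc
        rw [Subgroup.mem_centralizer_iff] at hc ⊢
        intro y hy
        have h5 := hc (a⁻¹ * y * a) (by
          have := le_Nm.1 h.A_le_Nm_L a⁻¹ (inv_mem ha) y hy
          simpa using this)
        calc y * (a * c * a⁻¹) = a * (a⁻¹ * y * a * c) * a⁻¹ := by group
          _ = _ := by rw [h5]; group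
      exact le_Nm.1 hN k hkA q hq'
  apply h.cent k hkA
  have hcom : ⁅Op 2 A, LL A B⁆ ≤ Subgroup.centralizer {k} := by
    rw [Subgroup.commutator_le]
    intro q hq l hl
    rw [Subgroup.mem_centralizer_singleton_iff]
    have hq' : k * q * k⁻¹ * q⁻¹ ∈ Subgroup.centralizer (LL A B : Set G) := by
      have : q ∈ F := by rw [hFQ]; exact hq
      exact this.2
    have hc : ∀ y ∈ LL A B, y * (k * q * k⁻¹ * q⁻¹) = (k * q * k⁻¹ * q⁻¹) * y := Subgroup.mem_centralizer_iff.1 hq'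
    obtain ⟨c, hc0⟩ : ∃ c, c = k * q * k⁻¹ * q⁻¹ := ⟨_, rfl⟩
    obtain ⟨u, hu0⟩ : ∃ u, u = k * l * k⁻¹ * l⁻¹ := ⟨_, rfl⟩
    have hu : u ∈ Op 2 A := by rw [hu0]; exact h.comm k hk l hl
    have hcQ : c ∈ Op 2 A := by rw [hc0]; exact mul_mem (hkQ q hq) (inv_mem hq)
    rw [← hc0] at hc
    have e1 : k * q * k⁻¹ = c * q := by rw [hc0]; group
    have e2 : k * l * k⁻¹ = u * l := by rw [hu0]; group
    have e3 : k * ⁅q, l⁆ * k⁻¹ = ⁅q, l⁆ := by
      rw [commutatorElement_def]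
      have h3 := hab u hu (l * (c * q)⁻¹ * l⁻¹) (hlQ l hl _ (inv_mem (mul_mem hcQ hq)))
      have h4 := hab c hcQ (q * l * q⁻¹ * l⁻¹) (by
        have : q * l * q⁻¹ * l⁻¹ = q * (l * q⁻¹ * l⁻¹) := by group
        rw [this]
        exact mul_mem hq (hlQ l hl _ (inv_mem hq)))
      have h5 := hc l hl
      calc k * (q * l * q⁻¹ * l⁻¹) * k⁻¹ = (k * q * k⁻¹) * (k * l * k⁻¹) * (k * q * k⁻¹)⁻¹ * (k * l * k⁻¹)⁻¹ := by group
        _ = (c * q) * (u * (l * (c * q)⁻¹ * l⁻¹)) * u⁻¹ := by rw [e1, e2]; group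
        _ = (c * q) * l * (c * q)⁻¹ * l⁻¹ := by rw [h3]; group
        _ = (c * (q * l * q⁻¹ * l⁻¹)) * (l * c⁻¹ * l⁻¹) := by group
        _ = (q * l * q⁻¹ * l⁻¹) * (c * l * c⁻¹ * l⁻¹) := by rw [h4]; group
        _ = _ := by rw [← h5]; group
    symm
    calc k * ⁅q, l⁆ = (k * ⁅q, l⁆ * k⁻¹) * k := by group
      _ = ⁅q, l⁆ * k := by rw [e3]
  intro y hy
  have := hcom (h.perf hy)
  rw [Subgroup.mem_centralizer_singleton_iff] at this
  exact this

/-- `C₁ ≤ X` -/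
theorem Nat5.C_le (h : Nat5 A B g m) : Op 2 A ⊓ Subgroup.centralizer (LL A B : Set G) ≤ Op 2 B := by
  rintro x ⟨hx, hx'⟩
  by_contra hcon
  have hm : m < 4 * m := by rcases h.hm with e | e <;> omega
  apply h.pair.symm.not_le hm
  intro y hy
  have hyL : y ∈ LL A B := by
    apply le_ncl A (Op 2 (A ⊓ B))
    rw [← h.sup]
    exact Subgroup.mem_sup_right hy
  exact (h.pair.nondeg x hx y hy (hx' y hyL).symm).resolve_left hcon

theorem Nat5.A_le_Nm_C (h : Nat5 A B g m) : A ≤ Nm (Subgroup.centralizer (LL A B : Set G)) := by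
  rw [le_Nm]
  intro a ha c hc
  rw [Subgroup.mem_centralizer_iff] at hc ⊢
  intro y hy
  have h5 := hc (a⁻¹ * y * a) (by
    have := le_Nm.1 h.A_le_Nm_L a⁻¹ (inv_mem ha) y hy
    simpa using this)
  calc y * (a * c * a⁻¹) = a * (a⁻¹ * y * a * c) * a⁻¹ := by group
    _ = _ := by rw [h5]; group

/-- `C₁ ∩ C₂ = 1` -/
theorem Nat5.C_inf (h : Nat5 A B g m) (h' : Nat5 B A g⁻¹ m) :
    (Op 2 A ⊓ Subgroup.centralizer (LL A B : Set G)) ⊓ (Op 2 B ⊓ Subgroup.centralizer (LL B A : Set G)) = ⊥ := by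
  have hD : A ⊓ B ≤ Nm ((Op 2 A ⊓ Subgroup.centralizer (LL A B : Set G)) ⊓
      (Op 2 B ⊓ Subgroup.centralizer (LL B A : Set G))) := by
    apply inf_le_Nm
    · exact inf_le_left.trans (inf_le_Nm (le_Nm_Op 2 A) h.A_le_Nm_C)
    · exact inf_le_right.trans (inf_le_Nm (le_Nm_Op 2 B) h'.A_le_Nm_C)
  apply h.pr.U
  · exact le_inf (inf_le_left.trans (inf_le_left.trans (Op_le 2 A))) (inf_le_right.trans (inf_le_left.trans (Op_le 2 B)))
  · refine h.LD.trans (sup_le ?_ hD)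
    rw [le_Nm]
    rintro l hl x hx
    have e : l * x * l⁻¹ = x := by
      rw [hx.1.2 l hl]
      group
    rw [e]
    exact hx
  · refine h'.LD.trans (sup_le ?_ (by rw [inf_comm]; exact hD))
    rw [le_Nm]
    rintro l hl x hx
    have e : l * x * l⁻¹ = x := by
      rw [hx.2.2 l hl]
      group
    rw [e]
    exact hx

/-- `L₁` is contained in every subgroup of index 2 of a group containing it -/
theorem Nat5.LL_le (h : Nat5 A B g m) {M H : Subgroup G} (_hM : M ≤ H) (hL : LL A B ≤ H) (h2 : M.relIndex H = 2) :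
    LL A B ≤ M := by
  have hcomm : ∀ a ∈ H, ∀ b ∈ H, ⁅a, b⁆ ∈ M := by
    intro a ha b hb
    have hn : (M.subgroupOf H).Normal := Subgroup.normal_of_index_eq_two h2
    have hsq : ∀ c ∈ H, c * c ∈ M := by
      intro c hc
      have := Subgroup.mul_self_mem_of_index_two h2 ⟨c, hc⟩
      exact this
    have e : ⁅a, b⁆ = (a * b * (b * a)⁻¹) := by
      rw [commutatorElement_def]; group
    rw [e]
    by_contra hcon
    have e2 : a * b * (b * a)⁻¹ = (a * b) * (a * b) * (((b * a) * (a * b))⁻¹) := by group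
    rw [e2] at hcon
    apply hcon
    refine mul_mem (hsq _ (mul_mem ha hb)) (inv_mem ?_)
    have e3 : b * a * (a * b) = (b * (a * a) * b⁻¹) * (b * b) := by group
    rw [e3]
    refine mul_mem ?_ (hsq b hb)
    have h3 := hn.conj_mem ⟨a * a, mul_mem ha ha⟩ (hsq a ha) ⟨b, hb⟩
    exact h3
  have hQ : Op 2 A ≤ M := by
    refine h.perf.trans ?_
    rw [Subgroup.commutator_le]
    intro a ha b hb
    exact hcomm a (hL (h.QL ha)) b (hL hb)
  obtain ⟨ρ, ψ, hn⟩ := h.nat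
  have hmap : (M.subgroupOf (LL A B)).map ρ = ⊤ := by
    rw [eq_top_iff, ← NK.perfect, commutator_def, Subgroup.commutator_le]
    intro s _ t _
    obtain ⟨a, rfl⟩ := hn.surjL s
    obtain ⟨b, rfl⟩ := hn.surjL t
    rw [← map_commutatorElement]
    refine Subgroup.mem_map_of_mem _ ?_
    exact hcomm a (hL a.2) b (hL b.2)
  intro l hl
  have h3 : ρ ⟨l, hl⟩ ∈ (M.subgroupOf (LL A B)).map ρ := by rw [hmap]; exact Subgroup.mem_top _
  obtain ⟨n, hn1, hn2⟩ := h3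
  have h4 : ρ (⟨l, hl⟩ * n⁻¹) = 1 := by rw [map_mul, map_inv, hn2, mul_inv_cancel]
  have h5 : l * (n : G)⁻¹ ∈ Op 2 A := (hn.kerL _).1 h4
  have h6 : l * (n : G)⁻¹ * n ∈ M := mul_mem (hQ h5) hn1
  rwa [inv_mul_cancel_right] at h6

theorem Nat5.card_C (h : Nat5 A B g m) :
    4 * Nat.card ↥(Op 2 A ⊓ Subgroup.centralizer (LL A B : Set G)) = m := by
  obtain ⟨ρ, ψ, hn⟩ := h.nat
  have h1 := hn.card
  rw [h.pair.ea₁.card] at h1
  omega

theorem Nat5.relIndex_X (h : Nat5 A B g m) :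
    (Subgroup.centralizer (LL A B : Set G)).relIndex (Op 2 A ⊓ Op 2 B) = 4 := by
  have h1 := card_inf_mul_relIndex (Op 2 A ⊓ Op 2 B) (Subgroup.centralizer (LL A B : Set G))
  have h2 : Subgroup.centralizer (LL A B : Set G) ⊓ (Op 2 A ⊓ Op 2 B) =
      Op 2 A ⊓ Subgroup.centralizer (LL A B : Set G) := by
    apply le_antisymm
    · exact le_inf (inf_le_right.trans inf_le_left) inf_le_left
    · exact le_inf inf_le_right (le_inf inf_le_left h.C_le)
  rw [h2, h.pair.inf, ← h.card_C] at h1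
  have h3 : 0 < Nat.card ↥(Op 2 A ⊓ Subgroup.centralizer (LL A B : Set G)) := Nat.card_pos
  rw [mul_comm 4] at h1
  exact Nat.eq_of_mul_eq_mul_left h3 h1

theorem Nat5.exists_X (h : Nat5 A B g m) : ∃ x ∈ Op 2 A ⊓ Op 2 B, x ∉ Subgroup.centralizer (LL A B : Set G) := by
  by_contra hcon
  push Not at hcon
  have h1 : Op 2 A ⊓ Op 2 B ≤ Subgroup.centralizer (LL A B : Set G) := hcon
  have h2 := h.relIndex_X
  rw [Subgroup.relIndex_eq_one.2 h1] at h2
  omega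

/-- `K₁ / Q₁` has order 1 or 3 -/
theorem Nat5.relIndex_QK (h : Nat5 A B g m) (_h' : Nat5 B A g⁻¹ m) :
    (Op 2 A).relIndex (core A (A ⊓ B)) = 1 ∨ (Op 2 A).relIndex (core A (A ⊓ B)) = 3 := by
  obtain ⟨x, ⟨hx, hxB⟩, hx'⟩ := h.exists_X
  obtain ⟨ρ, ψ, hn⟩ := h.nat
  have hXQ : Op 2 A ⊓ Op 2 B ≤ Op 2 A := inf_le_left
  have hKA : ∀ k ∈ core A (A ⊓ B), k * x * k⁻¹ ∈ Op 2 A := fun k hk => le_Nm.1 (le_Nm_Op 2 A) k (h.K_le_A hk) x hx
  have hKB : ∀ k ∈ core A (A ⊓ B), k * x * k⁻¹ ∈ Op 2 B := fun k hk => le_Nm.1 (le_Nm_Op 2 B) k (h.K_le_B hk) x hxB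
  have hle : (Op 2 A).relIndex (core A (A ⊓ B)) ≤ 3 := by
    set V := ((Op 2 A ⊓ Op 2 B).subgroupOf (Op 2 A)).map hn.hom with hV
    have hV4 : Nat.card V = 4 := by rw [hV, ← hn.relIndex_eq hXQ, h.relIndex_X]
    have hf : ∀ k : ↥(core A (A ⊓ B)), hn.hom ⟨k * x * (k : G)⁻¹, hKA k k.2⟩ ∈ V := fun k =>
      Subgroup.mem_map_of_mem _ ⟨hKA k k.2, hKB k k.2⟩
    let f : Option (↥(core A (A ⊓ B)) ⧸ (Op 2 A).subgroupOf (core A (A ⊓ B))) → V := fun o =>
      match o with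
      | none => 1
      | some c => ⟨_, hf c.out⟩
    have hC : ∀ k ∈ core A (A ⊓ B), ∀ y ∈ Subgroup.centralizer (LL A B : Set G),
        k⁻¹ * y * k ∈ Subgroup.centralizer (LL A B : Set G) := by
      intro k hk y hy
      have := le_Nm.1 h.A_le_Nm_C k⁻¹ (inv_mem (h.K_le_A hk)) y hy
      rwa [inv_inv] at this
    have hf1 : ∀ k : ↥(core A (A ⊓ B)), hn.hom ⟨k * x * (k : G)⁻¹, hKA k k.2⟩ ≠ 1 := by
      intro k hk
      apply hx'
      have h1 : (k * x * (k : G)⁻¹ : G) ∈ Subgroup.centralizer (LL A B : Set G) := (hn.kerQ _).1 hk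
      have h2 := hC k k.2 _ h1
      have e : (k : G)⁻¹ * (k * x * (k : G)⁻¹) * k = x := by group
      rwa [e] at h2
    have hinj : Function.Injective f := by
      rintro (_ | c) (_ | d) hcd
      · rfl
      · exact absurd (congrArg Subtype.val hcd).symm (hf1 d.out)
      · exact absurd (congrArg Subtype.val hcd) (hf1 c.out)
      · congr 1
        have h1 : hn.hom ⟨c.out * x * (c.out : G)⁻¹, hKA _ c.out.2⟩ = hn.hom ⟨d.out * x * (d.out : G)⁻¹, hKA _ d.out.2⟩ :=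
          congrArg Subtype.val hcd
        have h2 := (hn.mem_iff (hKA _ c.out.2) (hKA _ d.out.2)).2 h1
        have h3 := hC _ d.out.2 _ h2
        have h4 := h.semireg (k := (d.out : G)⁻¹ * c.out) (x := x) (mul_mem (inv_mem d.out.2) c.out.2) hx (by
          have e : (d.out : G)⁻¹ * c.out * x * ((d.out : G)⁻¹ * c.out)⁻¹ * x⁻¹ =
            (d.out : G)⁻¹ * (c.out * x * (c.out : G)⁻¹ * (d.out * x * (d.out : G)⁻¹)⁻¹) * d.out := by group
          rw [e]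
          exact h3) hx'
        rw [← QuotientGroup.out_eq' c, ← QuotientGroup.out_eq' d]
        symm
        rw [QuotientGroup.eq]
        exact h4
    have h1 := Nat.card_le_card_of_injective f hinj
    rw [Finite.card_option, hV4] at h1
    have h2 : (Op 2 A).relIndex (core A (A ⊓ B)) =
      Nat.card (↥(core A (A ⊓ B)) ⧸ (Op 2 A).subgroupOf (core A (A ⊓ B))) := rfl
    omega
  have h0 : (Op 2 A).relIndex (core A (A ⊓ B)) ≠ 0 := by
    intro h0
    have h3 := card_mul_relIndex h.QK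
    rw [h0, mul_zero] at h3
    have h4 : 0 < Nat.card ↥(core A (A ⊓ B)) := Nat.card_pos
    omega
  have h2 : (Op 2 A).relIndex (core A (A ⊓ B)) ≠ 2 := by
    intro h2
    have h3 := card_mul_relIndex h.QK
    rw [h2, h.pair.ea₁.card] at h3
    have h4 : IsPGroup 2 ↥(core A (A ⊓ B)) := by
      rcases h.hm with e | e
      · exact IsPGroup.of_card (n := 5) (by rw [← h3, e]; norm_num)
      · exact IsPGroup.of_card (n := 7) (by rw [← h3, e]; norm_num)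
    have h5 := le_Op h.K_le_A (le_Nm_core A (A ⊓ B)) h4
    rw [Subgroup.relIndex_eq_one.2 h5] at h2
    omega
  omega

theorem Nat5.relIndex_AK (h : Nat5 A B g m) :
    (core A (A ⊓ B)).relIndex A = 60 ∨ (core A (A ⊓ B)).relIndex A = 120 := by
  obtain ⟨φ, hφ⟩ := exists_hom5 h.pr.idx
  have h1 := hφ.relIndex_dvd
  have h2 := Subgroup.card_dvd_of_le (hφ.alt h.hA)
  rw [hφ.card_range] at h2
  have h3 : Nat.card (alternatingGroup (Fin 5)) = 60 := by
    have h4 := two_mul_nat_card_alternatingGroup (α := Fin 5)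
    rw [card_perm5] at h4
    omega
  rw [h3] at h2
  obtain ⟨k, hk⟩ := h2
  rw [hk] at h1 ⊢
  have h4 : 60 * k ≤ 120 := Nat.le_of_dvd (by norm_num) h1
  have h5 : k ≠ 0 := by
    rintro rfl
    norm_num at h1
  have h6 : k = 1 ∨ k = 2 := by omega
  rcases h6 with rfl | rfl
  · left; norm_num
  · right; norm_num

end

end Cfsg.Agent.H209.Five
end
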